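import Groth.Agent.Misc15.P1Stalk
import Groth.Agent.Curves1.CurveMor.Basic
import Groth.Agent.NeronArea.SmoothLocusNMP
import Groth.Agent.Calg4.NormalizationChar
import Mathlib

/-!
Morphisms from normal curves to proper schemes from maps of function fields.
-/

set_option autoImplicit false
set_option linter.style.haveILetI false

universe u

open CategoryTheory CategoryTheory.Limits AlgebraicGeometry

namespace Groth.Curves1.FrobTwist

/-- The map of function fields of a morphism mapping generic point to generic point. -/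
noncomputable def fieldMap {X Y : Scheme.{u}} [IrreducibleSpace X] [IrreducibleSpace Y] (f : X ⟶ Y)
    (e : f (genericPoint X) = genericPoint Y) : Y.functionField →+* X.functionField :=
  (Y.presheaf.stalkSpecializes (specializes_of_eq e) ≫ f.stalkMap (genericPoint X)).hom

theorem fromSpecStalk_generic_comp {X Y : Scheme.{u}} [IrreducibleSpace X] [IrreducibleSpace Y] (f : X ⟶ Y)
    (e : f (genericPoint X) = genericPoint Y) :
    Spec.map (CommRingCat.ofHom (fieldMap f e)) ≫ Y.fromSpecStalk (genericPoint Y) =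
      X.fromSpecStalk (genericPoint X) ≫ f := by
  rw [← Scheme.SpecMap_stalkMap_fromSpecStalk,
    ← Y.SpecMap_stalkSpecializes_fromSpecStalk (specializes_of_eq e), ← Category.assoc, ← Spec.map_comp]
  rfl

theorem preValuationRing_stalk {Y : Scheme.{u}} [IsLocallyNoetherian Y] (hY : Pi1.IsNormalScheme Y)
    (hdim : topologicalKrullDim Y ≤ 1) (y : Y) : PreValuationRing (Y.presheaf.stalk y) := by
  have := (hY y).1
  have := (hY y).2
  have := CurveMor.isDedekindDomain_of_dim_le_one (CurveMor.ringKrullDim_stalk_le_one hdim y)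
  have := CurveMor.isPrincipalIdealRing_of_local (R := Y.presheaf.stalk y)
  have : ValuationRing (Y.presheaf.stalk y) := inferInstance
  infer_instance

theorem isDominant_fromSpecStalk_generic (Y : Scheme.{u}) [IrreducibleSpace Y] :
    IsDominant (Y.fromSpecStalk (genericPoint Y)) := by
  refine ⟨dense_iff_closure_eq.2 (Set.univ_subset_iff.1 ?_)⟩
  rw [← genericPoint_closure]
  exact closure_mono (Set.singleton_subset_iff.2
    ⟨IsLocalRing.closedPoint _, Scheme.fromSpecStalk_closedPoint⟩)

/-- Morphisms `Spec K(Y) ⟶ Z` over the base extend to `Y` for a normal curve `Y` and proper `Z`. -/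
theorem exists_hom_of_spec {Y Z S : Scheme.{u}} [IsIntegral Y] [IsLocallyNoetherian Y] [S.IsSeparated]
    (hY : Pi1.IsNormalScheme Y) (hdim : topologicalKrullDim Y ≤ 1) (sY : Y ⟶ S) (sZ : Z ⟶ S) [IsProper sZ]
    (φ : Spec Y.functionField ⟶ Z) (hφ : φ ≫ sZ = Y.fromSpecStalk (genericPoint Y) ≫ sY) :
    ∃ g : Y ⟶ Z, g ≫ sZ = sY ∧ Y.fromSpecStalk (genericPoint Y) ≫ g = φ := by
  let p := Scheme.PartialMap.ofFromSpecStalk sY sZ φ hφ
  have hp : p.hom ≫ sZ = p.domain.ι ≫ sY := Scheme.PartialMap.ofFromSpecStalk_comp _ _ _ _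
  haveI : Z.IsSeparated := ⟨by
    rw [← terminal.comp_from sZ]
    infer_instance⟩
  have hdom : p.toRationalMap.domain = ⊤ := top_le_iff.1 fun y _ => by
    haveI := preValuationRing_stalk hY hdim y
    exact Groth.Misc15.P1Stalk.mem_domain_of_preValuationRing sY sZ p hp y
  let q := p.toRationalMap.toPartialMap
  have hq : q.domain = ⊤ := hdom
  let i : Y ⟶ (q.domain : Scheme.{u}) := Y.topIso.inv ≫ Y.homOfLE hq.ge
  have hi : i ≫ q.domain.ι = 𝟙 Y := by simp [i]
  have hgen : Y.fromSpecStalk (genericPoint Y) ≫ i ≫ q.hom = φ := by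
    have h1 : q.fromFunctionField = p.fromFunctionField := by
      rw [← Scheme.RationalMap.fromFunctionField_toRationalMap, Scheme.RationalMap.toRationalMap_toPartialMap,
        Scheme.RationalMap.fromFunctionField_toRationalMap]
    have h2 : p.fromFunctionField = φ :=
      Scheme.PartialMap.fromSpecStalkOfMem_ofFromSpecStalk sY sZ φ hφ
    rw [← h2, ← h1, Scheme.PartialMap.fromFunctionField, Scheme.PartialMap.fromSpecStalkOfMem, ← Category.assoc]
    congr 1
    rw [← cancel_mono q.domain.ι, Category.assoc, hi, Category.comp_id,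
      Scheme.Opens.fromSpecStalkOfMem_ι]
  refine ⟨i ≫ q.hom, ?_, hgen⟩
  haveI := isDominant_fromSpecStalk_generic Y
  refine ext_of_isDominant (Y.fromSpecStalk (genericPoint Y)) ?_
  rw [← hφ, ← hgen]
  simp only [Category.assoc]

/-- A morphism from a map of function fields. -/
theorem exists_hom_of_fieldMap {k : CommRingCat.{u}} {X Y Z : Scheme.{u}} [IsIntegral X] [IsIntegral Y]
    [IsIntegral Z] [IsLocallyNoetherian Y] (hY : Pi1.IsNormalScheme Y) (hdim : topologicalKrullDim Y ≤ 1)
    (sY : Y ⟶ Spec k) (sZ : Z ⟶ Spec k) [IsProper sZ] (f : X ⟶ Y) (F : X ⟶ Z) (hfF : f ≫ sY = F ≫ sZ)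
    (ef : f (genericPoint X) = genericPoint Y) (eF : F (genericPoint X) = genericPoint Z)
    (hrange : (fieldMap F eF).range ≤ (fieldMap f ef).range) :
    ∃ g : Y ⟶ Z, g ≫ sZ = sY ∧ f ≫ g = F := by
  have hinj : Function.Injective (fieldMap f ef) := RingHom.injective _
  let ψ : Z.functionField →+* Y.functionField :=
    ((RingEquiv.ofBijective (fieldMap f ef).rangeRestrict
      ⟨fun a b h => hinj (congrArg Subtype.val h), (fieldMap f ef).rangeRestrict_surjective⟩).symm : _ →+* _).comp
      ((fieldMap F eF).codRestrict (fieldMap f ef).range fun z => hrange ⟨z, rfl⟩)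
  have hψ : (fieldMap f ef).comp ψ = fieldMap F eF := RingHom.ext fun z =>
    congr($((RingEquiv.ofBijective (fieldMap f ef).rangeRestrict
      ⟨fun a b h => hinj (congrArg Subtype.val h), (fieldMap f ef).rangeRestrict_surjective⟩).apply_symm_apply
        ⟨fieldMap F eF z, hrange ⟨z, rfl⟩⟩).1)
  let φ : Spec Y.functionField ⟶ Z := Spec.map (CommRingCat.ofHom ψ) ≫ Z.fromSpecStalk (genericPoint Z)
  have hcomp : Spec.map (CommRingCat.ofHom (fieldMap f ef)) ≫ φ = X.fromSpecStalk (genericPoint X) ≫ F := by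
    rw [← fromSpecStalk_generic_comp F eF, ← hψ]
    simp only [φ, ← Category.assoc, ← Spec.map_comp]
    rfl
  have hφ : φ ≫ sZ = Y.fromSpecStalk (genericPoint Y) ≫ sY := by
    obtain ⟨a, ha⟩ := Spec.map_surjective (φ ≫ sZ)
    obtain ⟨b, hb⟩ := Spec.map_surjective (Y.fromSpecStalk (genericPoint Y) ≫ sY)
    have h : Spec.map (CommRingCat.ofHom (fieldMap f ef)) ≫ (φ ≫ sZ) =
        Spec.map (CommRingCat.ofHom (fieldMap f ef)) ≫ (Y.fromSpecStalk (genericPoint Y) ≫ sY) := by
      rw [← Category.assoc, hcomp]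
      refine Eq.trans ?_ (Category.assoc _ _ _)
      refine Eq.trans ?_ (congrArg (· ≫ sY) (fromSpecStalk_generic_comp f ef)).symm
      rw [Category.assoc, Category.assoc, hfF]
    rw [← ha, ← hb, ← Spec.map_comp, ← Spec.map_comp] at h
    rw [← ha, ← hb]
    congr 1
    ext x
    exact hinj congr($(Spec.map_injective h).hom x)
  obtain ⟨g, hg, hgen⟩ := exists_hom_of_spec hY hdim sY sZ φ hφ
  refine ⟨g, hg, ?_⟩
  haveI : Z.IsSeparated := ⟨by
    rw [← terminal.comp_from sZ]
    infer_instance⟩
  haveI := isDominant_fromSpecStalk_generic X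
  refine ext_of_isDominant (X.fromSpecStalk (genericPoint X)) ?_
  rw [← hcomp, ← hgen, ← Category.assoc, ← fromSpecStalk_generic_comp f ef, Category.assoc]

end Groth.Curves1.FrobTwist
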