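import Mathlib

set_option linter.style.haveILetI false

/-!
Purely inseparable subfields of a separably generated function field in one variable.
-/

namespace Groth.Curves1.FrobTwist

variable {k K : Type*} [Field k] [Field K] [Algebra k K]

/-- In a finite purely inseparable extension the `[K : E]`-th power of every element is in `E`. -/
theorem pow_finrank_mem {E L : Type*} [Field E] [Field L] [Algebra E L] (p : ℕ) [Fact p.Prime] [ExpChar E p]
    [FiniteDimensional E L] [IsPurelyInseparable E L] (r : ℕ) (hr : Module.finrank E L = p ^ r) (x : L) :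
    x ^ p ^ r ∈ (algebraMap E L).range := by
  obtain ⟨m, c, hm⟩ := IsPurelyInseparable.minpoly_eq_X_pow_sub_C E p x
  have hint : IsIntegral E x := Algebra.IsIntegral.isIntegral x
  have hdeg : p ^ m ≤ p ^ r := by
    rw [← hr]
    have h := minpoly.natDegree_le (A := E) x
    rwa [hm, Polynomial.natDegree_X_pow_sub_C] at h
  have hx : x ^ p ^ m = algebraMap E L c := by
    have h := minpoly.aeval E x
    simp only [hm, map_sub, map_pow, Polynomial.aeval_X, Polynomial.aeval_C, sub_eq_zero] at h
    exact h
  obtain ⟨d, rfl⟩ := Nat.le.dest ((Nat.pow_le_pow_iff_right (Fact.out : p.Prime).one_lt).1 hdeg)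
  exact ⟨c ^ p ^ d, by rw [map_pow, ← hx, ← pow_mul, pow_add]⟩

/-- A subfield of index `q = p ^ r` containing a subfield `M` with all `q`-th powers coincides with
`M` as soon as the field is separable over some `k(t)`. -/
theorem eq_of_separating (p : ℕ) [Fact p.Prime] [CharP K p] (r : ℕ) {M E : IntermediateField k K}
    (hME : M ≤ E) (hpow : ∀ x : K, x ^ p ^ r ∈ M) (hE : Module.finrank E K = p ^ r) (t : K)
    [Algebra.IsSeparable (IntermediateField.adjoin k ({t} : Set K)) K] : M = E := by
  have hp : p.Prime := Fact.out
  haveI : CharP M p := (RingHom.charP_iff (algebraMap M K) (algebraMap M K).injective p).mpr ‹_›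
  let N := IntermediateField.adjoin M ({t} : Set K)
  haveI : CharP N p := (RingHom.charP_iff (algebraMap N K) (algebraMap N K).injective p).mpr ‹_›
  haveI : ExpChar N p := ExpChar.prime hp
  haveI : IsPurelyInseparable N K := (isPurelyInseparable_iff_pow_mem N p).2 fun x =>
    ⟨r, ⟨⟨x ^ p ^ r, N.algebraMap_mem ⟨_, hpow x⟩⟩, rfl⟩⟩
  have hle : IntermediateField.adjoin k ({t} : Set K) ≤ N.restrictScalars k :=
    IntermediateField.adjoin_simple_le_iff.mpr (IntermediateField.mem_adjoin_simple_self M t)
  haveI : Algebra.IsSeparable N K := by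
    letI := (IntermediateField.inclusion hle).toRingHom.toAlgebra
    haveI : IsScalarTower (IntermediateField.adjoin k ({t} : Set K)) (N.restrictScalars k) K :=
      IsScalarTower.of_algebraMap_eq fun _ => rfl
    exact Algebra.isSeparable_tower_top_of_isSeparable
      (IntermediateField.adjoin k ({t} : Set K)) (N.restrictScalars k) K
  have hN : N = ⊤ := by
    refine eq_top_iff.2 fun x _ => ?_
    obtain ⟨y, rfl⟩ := IsPurelyInseparable.surjective_algebraMap_of_isSeparable N K x
    exact y.2
  let P : Polynomial M := Polynomial.X ^ p ^ r - Polynomial.C ⟨t ^ p ^ r, hpow t⟩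
  have hPm : P.Monic := Polynomial.monic_X_pow_sub_C _ (pow_ne_zero _ hp.ne_zero)
  have hPt : Polynomial.aeval t P = 0 := by simp [P]
  have hint : IsIntegral M t := ⟨P, hPm, by simpa [Polynomial.aeval_def] using hPt⟩
  have hdeg : Module.finrank M K ≤ p ^ r := by
    have h1 : Module.finrank M N ≤ p ^ r := by
      rw [IntermediateField.adjoin.finrank hint]
      exact (Polynomial.natDegree_le_of_dvd (minpoly.dvd M t hPt) hPm.ne_zero).trans
        (Polynomial.natDegree_X_pow_sub_C).le
    rwa [hN, IntermediateField.finrank_top'] at h1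
  haveI : FiniteDimensional M K := by
    haveI := IntermediateField.adjoin.finiteDimensional hint
    have h : FiniteDimensional M N := inferInstance
    rw [hN] at h
    exact Module.Finite.equiv IntermediateField.topEquiv.toLinearEquiv
  exact IntermediateField.eq_of_le_of_finrank_le' hME (hE ▸ hdeg)

end Groth.Curves1.FrobTwist
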