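import Groth.Agent.Curves1.FrobTwist.Field
import Groth.Agent.Curves1.FrobTwist.Extend
import Groth.Agent.CurveDiv.HilbProper
import Groth.Agent.Calg5.KaehlerField
import Groth.Agent.S4435

/-!
A purely inseparable morphism of curves is a power of Frobenius.
-/

set_option autoImplicit false
set_option linter.style.haveILetI false

universe u

open CategoryTheory CategoryTheory.Limits AlgebraicGeometry

namespace Groth.Curves1.FrobTwist

theorem charP_of_expChar_prime' {R : Type*} [CommRing R] (p : ℕ) [h : ExpChar R p] (hp : p.Prime) : CharP R p := by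
  cases h with
  | zero => exact absurd hp Nat.not_prime_one
  | prime _ => assumption

theorem fieldMap_eq_of {X Y : Scheme.{u}} [IrreducibleSpace X] [IrreducibleSpace Y] {f : X ⟶ Y}
    (e : f (genericPoint X) = genericPoint Y) {φ : Y.functionField →+* X.functionField}
    (h : Spec.map (CommRingCat.ofHom φ) ≫ Y.fromSpecStalk (genericPoint Y) =
      X.fromSpecStalk (genericPoint X) ≫ f) : fieldMap f e = φ := by
  rw [← fromSpecStalk_generic_comp f e, cancel_mono] at h
  exact (congr($(Spec.map_injective h).hom)).symm

theorem fieldMap_comp {X Y Z : Scheme.{u}} [IrreducibleSpace X] [IrreducibleSpace Y] [IrreducibleSpace Z]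
    (f : X ⟶ Y) (g : Y ⟶ Z) (ef : f (genericPoint X) = genericPoint Y) (eg : g (genericPoint Y) = genericPoint Z)
    (efg : (f ≫ g) (genericPoint X) = genericPoint Z) :
    fieldMap (f ≫ g) efg = (fieldMap f ef).comp (fieldMap g eg) := by
  refine fieldMap_eq_of efg ?_
  rw [← Category.assoc, ← fromSpecStalk_generic_comp f ef, Category.assoc,
    ← fromSpecStalk_generic_comp g eg, ← Category.assoc, ← Spec.map_comp]
  rfl

theorem specMap_ofHom_comp {R S T : CommRingCat.{u}} (f : R →+* S) (g : S →+* T) :
    Spec.map (CommRingCat.ofHom g) ≫ Spec.map (CommRingCat.ofHom f) = Spec.map (CommRingCat.ofHom (g.comp f)) := by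
  rw [← Spec.map_comp]
  rfl

theorem bijective_stalkSpecializes_of_eq (Y : Scheme.{u}) {x y : Y} (e : x = y) :
    Function.Bijective (Y.presheaf.stalkSpecializes (specializes_of_eq e)).hom := by
  subst e
  simp only [TopCat.Presheaf.stalkSpecializes_refl]
  exact Function.bijective_id

theorem finite_fieldMap {X Y : Scheme.{u}} [IsIntegral X] [IsIntegral Y] (f : X ⟶ Y) [IsFinite f]
    (e : f (genericPoint X) = genericPoint Y) : (fieldMap f e).Finite := by
  haveI : IsDominant f := ⟨by
    rw [DenseRange, dense_iff_closure_eq, ← Set.univ_subset_iff, ← genericPoint_closure]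
    exact closure_mono (Set.singleton_subset_iff.2 ⟨_, e⟩)⟩
  exact RingHom.Finite.comp ((Groth.Agent.S4435.result f).2 inferInstance)
    (RingHom.Finite.of_surjective _ (bijective_stalkSpecializes_of_eq Y e).2)

/-- The inclusion of the base field in the function field. -/
noncomputable def baseMap {k : CommRingCat.{u}} {X : Scheme.{u}} [IrreducibleSpace X] (sX : X ⟶ Spec k) :
    k →+* X.functionField :=
  (Spec.preimage (X.fromSpecStalk (genericPoint X) ≫ sX)).hom

theorem specMap_baseMap {k : CommRingCat.{u}} {X : Scheme.{u}} [IrreducibleSpace X] (sX : X ⟶ Spec k) :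
    Spec.map (CommRingCat.ofHom (baseMap sX)) = X.fromSpecStalk (genericPoint X) ≫ sX :=
  Spec.map_preimage _

theorem fieldMap_baseMap {k : CommRingCat.{u}} {X Y : Scheme.{u}} [IrreducibleSpace X] [IrreducibleSpace Y]
    (sX : X ⟶ Spec k) (sY : Y ⟶ Spec k) (f : X ⟶ Y) (hf : f ≫ sY = sX)
    (e : f (genericPoint X) = genericPoint Y) : (fieldMap f e).comp (baseMap sY) = baseMap sX := by
  have h : Spec.map (CommRingCat.ofHom ((fieldMap f e).comp (baseMap sY))) =
      Spec.map (CommRingCat.ofHom (baseMap sX)) := by
    rw [CommRingCat.ofHom_comp, Spec.map_comp, specMap_baseMap, specMap_baseMap, ← Category.assoc,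
      fromSpecStalk_generic_comp, Category.assoc, hf]
  exact congr($(Spec.map_injective h).hom)

theorem baseMap_eq_germ {k : CommRingCat.{u}} {X : Scheme.{u}} [IrreducibleSpace X] (sX : X ⟶ Spec k)
    {V : X.Opens} (hV : IsAffineOpen V) [Nonempty V] :
    baseMap sX = ((X.germToFunctionField V).hom.comp (sX.appLE ⊤ V le_top).hom).comp
      (Scheme.ΓSpecIso k).inv.hom := by
  have hv : genericPoint X ∈ V := ((genericPoint_spec X).mem_open_set_iff V.isOpen).mpr
    (by simpa using (inferInstance : Nonempty V))
  have h : Spec.map ((Scheme.ΓSpecIso k).inv ≫ sX.appLE ⊤ V le_top ≫ X.germToFunctionField V) =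
      Spec.map (CommRingCat.ofHom (baseMap sX)) := by
    rw [specMap_baseMap, ← hV.fromSpecStalk_eq_fromSpecStalk hv, Spec.map_comp, Spec.map_comp,
      IsAffineOpen.fromSpecStalk, Category.assoc, Category.assoc,
      ← IsAffineOpen.SpecMap_appLE_fromSpec sX (isAffineOpen_top (Spec k)) hV le_top, IsAffineOpen.fromSpec_top,
      Scheme.isoSpec_Spec_inv]
  exact (congr($(Spec.map_injective h).hom)).symm

theorem exists_separating_of_standardSmooth {k : Type u} [Field k] (A K : Type u) [CommRing A] [IsDomain A]
    [Field K] [Algebra k A] [Algebra A K] [Algebra k K] [IsScalarTower k A K] [IsFractionRing A K]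
    [Algebra.IsStandardSmoothOfRelativeDimension 1 k A] :
    ∃ t : K, Algebra.IsSeparable (IntermediateField.adjoin k ({t} : Set K)) K := by
  haveI : Algebra.IsStandardSmooth k A := Algebra.IsStandardSmoothOfRelativeDimension.isStandardSmooth 1
  haveI : Algebra.EssFiniteType A K := Algebra.EssFiniteType.of_isLocalization K (nonZeroDivisors A)
  haveI : Algebra.EssFiniteType k K := Algebra.EssFiniteType.comp k A K
  haveI : Algebra.FormallyEtale A K := Algebra.FormallyEtale.of_isLocalization (nonZeroDivisors A)
  have hbc := KaehlerDifferential.isBaseChange_of_formallyEtale k A K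
  have hrk := Algebra.IsStandardSmoothOfRelativeDimension.rank_kaehlerDifferential (R := k) (S := A) 1
  let b := Module.Free.chooseBasis A Ω[A⁄k]
  let bK := hbc.basis b
  have hK : Module.rank K Ω[K⁄k] = 1 := by
    rw [← bK.mk_eq_rank'', b.mk_eq_rank'', hrk, Nat.cast_one]
  obtain ⟨t, ht⟩ : ∃ t : K, KaehlerDifferential.D k K t ≠ 0 := by
    by_contra hne
    push Not at hne
    have hb : Submodule.span K (Set.range (KaehlerDifferential.D k K)) = ⊥ :=
      Submodule.span_eq_bot.2 (by rintro _ ⟨x, rfl⟩; exact hne x)
    rw [KaehlerDifferential.span_range_derivation] at hb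
    have : Subsingleton Ω[K⁄k] := subsingleton_of_forall_eq 0 fun x =>
      (Submodule.mem_bot K).1 (hb ▸ Submodule.mem_top)
    rw [rank_subsingleton'] at hK
    exact zero_ne_one hK
  have hspan : Submodule.span K {KaehlerDifferential.D k K t} = ⊤ :=
    (finrank_eq_one_iff_of_nonzero _ ht).1 (Module.finrank_eq_of_rank_eq (n := 1) (by rw [hK, Nat.cast_one]))
  refine ⟨t, Groth.Calg5.isSeparable_of_span_top (IntermediateField.adjoin k ({t} : Set K)) (fun _ : Unit => t)
    (fun _ => IntermediateField.mem_adjoin_simple_self k t) ?_⟩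
  rw [Set.range_const, hspan]

/-- The function field of a smooth curve is separably generated. -/
theorem exists_separating {k : Type u} [Field k] {X : Scheme.{u}} [IsIntegral X]
    (sX : X ⟶ Spec (CommRingCat.of k)) [Smooth sX] (hdX : topologicalKrullDim X = 1) :
    letI : Algebra k X.functionField := (baseMap sX).toAlgebra
    ∃ t : X.functionField, Algebra.IsSeparable (IntermediateField.adjoin k ({t} : Set X.functionField)) X.functionField := by
  haveI := Groth.CurveDiv.smoothOfRelativeDimension_one_of_curve sX hdX
  obtain ⟨U, hU, V, hV, hηV, e, hs⟩ :=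
    SmoothOfRelativeDimension.exists_isStandardSmoothOfRelativeDimension (n := 1) (f := sX) (genericPoint X)
  haveI hne : Nonempty V := ⟨⟨_, hηV⟩⟩
  obtain rfl : U = ⊤ := top_le_iff.1 fun z _ => by
    obtain rfl : z = sX (genericPoint X) := Subsingleton.elim (α := PrimeSpectrum k) _ _
    exact e hηV
  letI : Algebra k X.functionField := (baseMap sX).toAlgebra
  let φ : k →+* Γ(X, V) := (sX.appLE ⊤ V le_top).hom.comp (Scheme.ΓSpecIso (CommRingCat.of k)).inv.hom
  letI : Algebra k Γ(X, V) := φ.toAlgebra
  haveI : IsScalarTower k Γ(X, V) X.functionField := IsScalarTower.of_algebraMap_eq' (baseMap_eq_germ sX hV)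
  haveI := functionField_isFractionRing_of_isAffineOpen X V hV
  haveI : Algebra.IsStandardSmoothOfRelativeDimension 1 k Γ(X, V) :=
    RingHom.isStandardSmoothOfRelativeDimension_respectsIso.2 (sX.appLE ⊤ V le_top).hom
      (Scheme.ΓSpecIso (CommRingCat.of k)).symm.commRingCatIsoToRingEquiv hs
  exact exists_separating_of_standardSmooth Γ(X, V) X.functionField

/-- Base change along an iterate of Frobenius is a homeomorphism. -/
theorem isHomeomorph_fst_frobenius {k : Type u} [Field k] (p : ℕ) [Fact p.Prime] [ExpChar k p] (r : ℕ)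
    {X : Scheme.{u}} (sX : X ⟶ Spec (CommRingCat.of k)) :
    IsHomeomorph (pullback.fst sX (Spec.map (CommRingCat.ofHom (iterateFrobenius k p r)))) := by
  let σ := Spec.map (CommRingCat.ofHom (iterateFrobenius k p r))
  haveI : IsIntegralHom σ := IsIntegralHom.SpecMap_iff.2 fun x =>
    ⟨Polynomial.X ^ p ^ r - Polynomial.C x, Polynomial.monic_X_pow_sub_C _ (pow_ne_zero _ (Fact.out : p.Prime).ne_zero),
      by simp [iterateFrobenius_def]⟩
  haveI : UniversallyInjective σ :=
    ((tfae_universallyInjective σ).out 0 1 : _ ↔ ∀ (K : Type u) [Field K],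
      Function.Injective (fun g : Spec (.of K) ⟶ Spec (CommRingCat.of k) => g ≫ σ)).2 fun K _ g₁ g₂ e => by
      obtain ⟨a, rfl⟩ := Spec.map_surjective g₁
      obtain ⟨b, rfl⟩ := Spec.map_surjective g₂
      simp only [σ, ← Spec.map_comp] at e
      congr 1
      ext x
      have h := congr($(Spec.map_injective e).hom x)
      simp only [CommRingCat.hom_comp, CommRingCat.hom_ofHom, RingHom.comp_apply, iterateFrobenius_def, map_pow] at h
      haveI : CharP k p := charP_of_expChar_prime' p (Fact.out : p.Prime)
      haveI : CharP K p := charP_of_injective_ringHom a.hom.injective p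
      haveI : ExpChar K p := ExpChar.prime Fact.out
      exact iterateFrobenius_inj K p r (by simpa only [iterateFrobenius_def] using h)
  haveI : Surjective σ := ⟨fun z => ⟨z, Subsingleton.elim (α := PrimeSpectrum k) _ _⟩⟩
  haveI h1 : IsIntegralHom (pullback.fst sX σ) := MorphismProperty.pullback_fst _ _ inferInstance
  haveI h2 : UniversallyInjective (pullback.fst sX σ) := MorphismProperty.pullback_fst _ _ inferInstance
  haveI h3 : Surjective (pullback.fst sX σ) := MorphismProperty.pullback_fst _ _ inferInstance
  exact isHomeomorph_iff_continuous_isClosedMap_bijective.2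
    ⟨(pullback.fst sX σ).continuous, (pullback.fst sX σ).isClosedMap,
      (pullback.fst sX σ).injective, (pullback.fst sX σ).surjective⟩

/-- A purely inseparable morphism of normal projective curves is a power of Frobenius. -/
theorem exists_iso {k : Type u} [Field k] (p : ℕ) [Fact p.Prime] [ExpChar k p] {X Y : Scheme.{u}}
    (sX : X ⟶ Spec (CommRingCat.of k)) (sY : Y ⟶ Spec (CommRingCat.of k)) [IsProper sX] [IsProper sY]
    [Smooth sX] [IsIntegral X] [IsIntegral Y] (hdX : topologicalKrullDim X = 1) (hdY : topologicalKrullDim Y = 1)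
    (hnY : Pi1.IsNormalScheme Y) (f : X ⟶ Y) [IsFinite f] (hf : f ≫ sY = sX)
    (e : f (genericPoint X) = genericPoint Y)
    (hpi : letI := (fieldMap f e).toAlgebra
      IsPurelyInseparable Y.functionField X.functionField) :
    ∃ (r : ℕ) (i : Y ≅ pullback sX (Spec.map (CommRingCat.ofHom (iterateFrobenius k p r)))),
      i.hom ≫ pullback.snd sX (Spec.map (CommRingCat.ofHom (iterateFrobenius k p r))) = sY := by
  have hp : p.Prime := Fact.out
  haveI : CharP k p := charP_of_expChar_prime' p hp
  haveI : CharP X.functionField p := charP_of_injective_ringHom (baseMap sX).injective p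
  haveI : CharP Y.functionField p := charP_of_injective_ringHom (baseMap sY).injective p
  haveI : ExpChar X.functionField p := ExpChar.prime hp
  haveI : ExpChar Y.functionField p := ExpChar.prime hp
  letI : Algebra Y.functionField X.functionField := (fieldMap f e).toAlgebra
  haveI : Module.Finite Y.functionField X.functionField := finite_fieldMap f e
  haveI : IsPurelyInseparable Y.functionField X.functionField := hpi
  obtain ⟨r, hr⟩ := IsPurelyInseparable.finrank_eq_pow Y.functionField X.functionField p
  refine ⟨r, ?_⟩
  let σ := Spec.map (CommRingCat.ofHom (iterateFrobenius k p r))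
  have hinj : Function.Injective (fieldMap f e) := RingHom.injective _
  have hmem : ∀ x : X.functionField, ∃ y : Y.functionField, fieldMap f e y = iterateFrobenius X.functionField p r x :=
    fun x => by
      obtain ⟨y, hy⟩ := pow_finrank_mem p r hr x
      exact ⟨y, hy.trans (iterateFrobenius_def p r x).symm⟩
  let χ : X.functionField →+* Y.functionField :=
    { toFun := fun x => (hmem x).choose
      map_one' := hinj (by rw [(hmem 1).choose_spec, map_one, map_one])
      map_mul' := fun a b => hinj (((hmem (a * b)).choose_spec.trans (map_mul _ a b)).trans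
        ((congrArg₂ (· * ·) (hmem a).choose_spec.symm (hmem b).choose_spec.symm).trans (map_mul _ _ _).symm))
      map_zero' := hinj (by rw [(hmem 0).choose_spec, map_zero, map_zero])
      map_add' := fun a b => hinj (((hmem (a + b)).choose_spec.trans (map_add _ a b)).trans
        ((congrArg₂ (· + ·) (hmem a).choose_spec.symm (hmem b).choose_spec.symm).trans (map_add _ _ _).symm)) }
  have hχ : (fieldMap f e).comp χ = iterateFrobenius X.functionField p r :=
    RingHom.ext fun x => (hmem x).choose_spec
  have hbase : (fieldMap f e).comp (baseMap sY) = baseMap sX := fieldMap_baseMap sX sY f hf e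
  have hcomm : χ.comp (baseMap sX) = (baseMap sY).comp (iterateFrobenius k p r) := RingHom.ext fun c => hinj (by
    have h1 : fieldMap f e (χ (baseMap sX c)) = baseMap sX c ^ p ^ r :=
      (DFunLike.congr_fun hχ _).trans (iterateFrobenius_def p r _)
    have h2 : fieldMap f e (baseMap sY (c ^ p ^ r)) = baseMap sX (c ^ p ^ r) := DFunLike.congr_fun hbase _
    rw [RingHom.comp_apply, h1, RingHom.comp_apply, iterateFrobenius_def, h2, map_pow])
  haveI : IsLocallyNoetherian Y := LocallyOfFiniteType.isLocallyNoetherian sY
  obtain ⟨a, ha, hagen⟩ := exists_hom_of_spec hnY hdY.le (sY ≫ σ) sX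
    (Spec.map (CommRingCat.ofHom χ) ≫ X.fromSpecStalk (genericPoint X)) (by
      rw [Category.assoc, ← specMap_baseMap sX, ← Category.assoc, ← specMap_baseMap sY]
      exact (specMap_ofHom_comp (R := CommRingCat.of k) _ _).trans
        ((congrArg (fun φ => Spec.map (CommRingCat.ofHom φ)) hcomm).trans
          (specMap_ofHom_comp (R := CommRingCat.of k) (S := CommRingCat.of k) _ _).symm))
  have hfa : X.fromSpecStalk (genericPoint X) ≫ f ≫ a =
      Spec.map (CommRingCat.ofHom (iterateFrobenius X.functionField p r)) ≫ X.fromSpecStalk (genericPoint X) := by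
    rw [← Category.assoc, ← fromSpecStalk_generic_comp f e, Category.assoc, hagen, ← Category.assoc]
    exact congrArg (· ≫ X.fromSpecStalk (genericPoint X))
      ((specMap_ofHom_comp χ (fieldMap f e)).trans (congrArg (fun φ => Spec.map (CommRingCat.ofHom φ)) hχ))
  have efa : (f ≫ a) (genericPoint X) = genericPoint X := by
    have h := congr($(hfa).base (IsLocalRing.closedPoint X.functionField))
    simp only [Scheme.Hom.comp_base, TopCat.comp_app] at h
    rw [Scheme.fromSpecStalk_closedPoint] at h
    refine h.trans ?_
    rw [show (Spec.map (CommRingCat.ofHom (iterateFrobenius X.functionField p r))).base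
      (IsLocalRing.closedPoint X.functionField) = IsLocalRing.closedPoint X.functionField from
      Subsingleton.elim (α := PrimeSpectrum X.functionField) _ _, Scheme.fromSpecStalk_closedPoint]
  have hfield : fieldMap (f ≫ a) efa = iterateFrobenius X.functionField p r := fieldMap_eq_of efa hfa.symm
  let Z := pullback sX σ
  let sZ : Z ⟶ Spec (CommRingCat.of k) := pullback.snd sX σ
  haveI : Smooth sZ := MorphismProperty.pullback_snd _ _ inferInstance
  haveI : IsProper sZ := MorphismProperty.pullback_snd _ _ inferInstance
  have hhom : IsHomeomorph (pullback.fst sX σ) := isHomeomorph_fst_frobenius p r sX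
  have hnZ : Pi1.IsNormalScheme Z := Groth.NeronArea.isNormalScheme_of_smooth sZ
    (Groth.Calg4.NormChar.isNormalScheme_specField _ (Field.toIsField k))
  haveI : IsReduced Z := Groth.NeronArea.isReduced_of_normal hnZ
  haveI : IrreducibleSpace Z := hhom.homeomorph.symm.surjective.irreducibleSpace
    hhom.homeomorph.symm.continuous
  haveI : IsIntegral Z := isIntegral_of_irreducibleSpace_of_isReduced Z
  haveI : IsLocallyNoetherian Z := LocallyOfFiniteType.isLocallyNoetherian sZ
  have hdZ : topologicalKrullDim Z = 1 := hhom.topologicalKrullDim_eq.trans hdX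
  have hη : (pullback.fst sX σ) (genericPoint Z) = genericPoint X := by
    have h := (genericPoint_spec Z).image (pullback.fst sX σ).continuous
    rw [Set.image_univ, hhom.surjective.range_eq, closure_univ] at h
    exact h.eq (genericPoint_spec X)
  let g : Y ⟶ Z := pullback.lift a sY ha
  have hg : g ≫ sZ = sY := pullback.lift_snd _ _ _
  let F : X ⟶ Z := f ≫ g
  have hFfst : F ≫ pullback.fst sX σ = f ≫ a :=
    (Category.assoc _ _ _).trans (congrArg (f ≫ ·) (pullback.lift_fst _ _ _))
  have eF : F (genericPoint X) = genericPoint Z := hhom.injective (by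
    rw [hη, ← Scheme.Hom.comp_apply, hFfst, efa])
  have eg : g (genericPoint Y) = genericPoint Z := by
    rw [← e, ← Scheme.Hom.comp_apply]
    exact eF
  have hFover : F ≫ sZ = sX := by rw [Category.assoc, hg, hf]
  letI : Algebra k X.functionField := (baseMap sX).toAlgebra
  let M : IntermediateField k X.functionField := (fieldMap F eF).fieldRange.toIntermediateField
    fun c => ⟨baseMap sZ c, DFunLike.congr_fun (fieldMap_baseMap sX sZ F hFover eF) c⟩
  let E : IntermediateField k X.functionField := (fieldMap f e).fieldRange.toIntermediateField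
    fun c => ⟨baseMap sY c, DFunLike.congr_fun hbase c⟩
  have hME : M ≤ E := by
    rintro _ ⟨z, rfl⟩
    exact ⟨fieldMap g eg z, (DFunLike.congr_fun (fieldMap_comp f g e eg eF) z).symm⟩
  have hpow : ∀ x : X.functionField, x ^ p ^ r ∈ M := fun x => by
    refine ⟨fieldMap (pullback.fst sX σ) hη x, ?_⟩
    have e' : (F ≫ pullback.fst sX σ) (genericPoint X) = genericPoint X := by rw [hFfst]; exact efa
    have h1 : fieldMap (F ≫ pullback.fst sX σ) e' x = fieldMap F eF (fieldMap (pullback.fst sX σ) hη x) :=
      DFunLike.congr_fun (fieldMap_comp F (pullback.fst sX σ) eF hη e') x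
    have h2 : fieldMap (F ≫ pullback.fst sX σ) e' = iterateFrobenius X.functionField p r :=
      fieldMap_eq_of e' (by rw [hFfst, hfa])
    exact h1.symm.trans ((DFunLike.congr_fun h2 x).trans (iterateFrobenius_def p r x))
  have hE : Module.finrank E X.functionField = p ^ r := by
    rw [← hr]
    let e₀ : Y.functionField ≃+* E := RingEquiv.ofBijective ((fieldMap f e).codRestrict E.toSubfield
      fun y => ⟨y, rfl⟩) ⟨fun a b h => hinj (congrArg Subtype.val h), fun ⟨_, y, hy⟩ => ⟨y, Subtype.ext hy⟩⟩
    exact (Algebra.finrank_eq_of_equiv_equiv e₀ (RingEquiv.refl X.functionField) rfl).symm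
  obtain ⟨t, ht⟩ := exists_separating sX hdX
  have hEM : M = E := eq_of_separating p r hME hpow hE t
  have hrange : (fieldMap f e).range ≤ (fieldMap F eF).range := by
    rintro _ ⟨y, rfl⟩
    have : fieldMap f e y ∈ M := hEM ▸ ⟨y, rfl⟩
    exact this
  obtain ⟨h, hh, hFh⟩ := exists_hom_of_fieldMap hnZ hdZ.le sZ sY F f (hFover.trans hf.symm) eF e hrange
  haveI : IsDominant f := ⟨by
    rw [DenseRange, dense_iff_closure_eq, ← Set.univ_subset_iff, ← genericPoint_closure]
    exact closure_mono (Set.singleton_subset_iff.2 ⟨_, e⟩)⟩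
  haveI : IsDominant F := ⟨by
    rw [DenseRange, dense_iff_closure_eq, ← Set.univ_subset_iff, ← genericPoint_closure]
    exact closure_mono (Set.singleton_subset_iff.2 ⟨_, eF⟩)⟩
  haveI : Y.IsSeparated := ⟨by
    rw [← terminal.comp_from sY]
    infer_instance⟩
  haveI : Z.IsSeparated := ⟨by
    rw [← terminal.comp_from sZ]
    infer_instance⟩
  refine ⟨⟨g, h, ext_of_isDominant f ?_, ext_of_isDominant F ?_⟩, hg⟩
  · rw [← Category.assoc, Category.comp_id]
    exact hFh
  · rw [← Category.assoc, hFh, Category.comp_id]

end Groth.Curves1.FrobTwist
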